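import Groth.Agent.TFNodal.K977.UnitOn
import Groth.Agent.TFNodal.K977.Norm
import Groth.Agent.Dcoh.StalkMod

/-!
# A submodule as a kernel of a map to a quotient of a quotient
-/

set_option autoImplicit false
universe u
open CategoryTheory CategoryTheory.Limits AlgebraicGeometry TopologicalSpace Opposite

namespace K774.Assem

open Groth.Agent Groth.Agent.CycB.StalkExact K977

variable {X : Scheme.{u}} {F M N : X.Modules} (f : F ⟶ M) (t : M ⟶ N)

/-- If `t : M ⟶ N` is surjective on stalks with kernel contained in `F ⊆ M`, then `F` is the kernel of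
`M ⟶ N ⟶ N / F`. -/
theorem nonempty_iso (hf : ∀ x, Function.Injective (stalkLin f x))
    (hK : ∀ (x : X) (z : M.presheaf.stalk x), stalkLin t x z = 0 → z ∈ LinearMap.range (stalkLin f x)) :
    Nonempty (F ≅ kernel (t ≫ cokernel.π (f ≫ t))) := by
  have w : f ≫ t ≫ cokernel.π (f ≫ t) = 0 := by
    rw [← Category.assoc, cokernel.condition]
  let l : F ⟶ kernel (t ≫ cokernel.π (f ≫ t)) := kernel.lift _ f w
  have hl : l ≫ kernel.ι (t ≫ cokernel.π (f ≫ t)) = f := kernel.lift_ι _ _ _
  have hl' : ∀ (x : X) (n : F.presheaf.stalk x), stalkLin (kernel.ι (t ≫ cokernel.π (f ≫ t))) x (stalkLin l x n) =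
      stalkLin f x n := fun x n => by
    rw [← LinearMap.comp_apply, ← stalkLin_comp, hl]
  have hbij : ∀ x, Function.Bijective (stalkLin l x) := by
    intro x
    constructor
    · intro a b hab
      apply hf x
      rw [← hl', ← hl', hab]
    · intro z
      have h2 := stalkLin_exact (ShortComplex.mk (f ≫ t) (cokernel.π (f ≫ t)) (cokernel.condition _))
        (ShortComplex.exact_cokernel (f ≫ t)) x
      have h3 : stalkLin (cokernel.π (f ≫ t)) x
          (stalkLin t x (stalkLin (kernel.ι (t ≫ cokernel.π (f ≫ t))) x z)) = 0 := by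
        have h4 : stalkLin (kernel.ι (t ≫ cokernel.π (f ≫ t)) ≫ t ≫ cokernel.π (f ≫ t)) x z = 0 := by
          rw [kernel.condition]
          exact K977.TFNorm.stalkLin_zero x z
        rw [stalkLin_comp, stalkLin_comp] at h4
        exact h4
      obtain ⟨n, hn⟩ := (h2 _).1 h3
      have h5 : stalkLin t x (stalkLin (kernel.ι (t ≫ cokernel.π (f ≫ t))) x z - stalkLin f x n) = 0 := by
        rw [map_sub, sub_eq_zero, ← hn]
        change stalkLin (f ≫ t) x n = _
        rw [stalkLin_comp]
        rfl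
      obtain ⟨m, hm⟩ := hK x _ h5
      refine ⟨n + m, ?_⟩
      apply stalkLin_injective (kernel.ι (t ≫ cokernel.π (f ≫ t))) x
      rw [hl', map_add, hm]
      abel
  have : IsIso l := Dcoh.StalkMod.isIso_of_bijective l hbij
  exact ⟨asIso l⟩

/-- the stalk of `N / F` is the stalk of `M / F` -/
theorem nonempty_equiv (x : X) (ht : Function.Surjective (stalkLin t x))
    (hK : ∀ (z : M.presheaf.stalk x), stalkLin t x z = 0 → z ∈ LinearMap.range (stalkLin f x)) :
    Nonempty ((cokernel f).presheaf.stalk x ≃ₗ[X.presheaf.stalk x] (cokernel (f ≫ t)).presheaf.stalk x) := by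
  obtain ⟨e1⟩ := UnitOn.nonempty_coker_equiv f x
  obtain ⟨e2⟩ := UnitOn.nonempty_coker_equiv (f ≫ t) x
  have hcomp : ∀ n, stalkLin (f ≫ t) x n = stalkLin t x (stalkLin f x n) := fun n => by
    rw [stalkLin_comp]; rfl
  let g : (M.presheaf.stalk x ⧸ LinearMap.range (stalkLin f x)) →ₗ[X.presheaf.stalk x]
      (N.presheaf.stalk x ⧸ LinearMap.range (stalkLin (f ≫ t) x)) :=
    Submodule.mapQ _ _ (stalkLin t x) (by
      rintro _ ⟨n, rfl⟩
      exact ⟨n, hcomp n⟩)
  have hg : Function.Bijective g := by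
    constructor
    · rw [injective_iff_map_eq_zero]
      intro a ha
      obtain ⟨m, rfl⟩ := Submodule.Quotient.mk_surjective _ a
      have h1 : stalkLin t x m ∈ LinearMap.range (stalkLin (f ≫ t) x) :=
        (Submodule.Quotient.mk_eq_zero _).1 ha
      obtain ⟨n, hn⟩ := h1
      obtain ⟨n', hn'⟩ := hK (m - stalkLin f x n) (by rw [map_sub, sub_eq_zero, ← hn, hcomp])
      refine (Submodule.Quotient.mk_eq_zero _).2 ⟨n' + n, ?_⟩
      rw [map_add, hn']
      abel
    · intro b
      obtain ⟨m, rfl⟩ := Submodule.Quotient.mk_surjective _ b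
      obtain ⟨z, rfl⟩ := ht m
      exact ⟨Submodule.Quotient.mk z, rfl⟩
  exact ⟨e1.symm.trans ((LinearEquiv.ofBijective g hg).trans e2)⟩

end K774.Assem
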