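import Groth.Agent.ParSh.K958.CurvA
import Groth.Agent.Curves.K321.IdealPts

/-!
# The kernel of `E → E ⊗ O_D` on stalks
-/

set_option autoImplicit false
universe u
open CategoryTheory CategoryTheory.Limits AlgebraicGeometry TopologicalSpace Opposite MonoidalCategory
open TensorProduct

namespace K774.Twist

open Groth.Agent Groth.Agent.Dcoh.Stalk Groth.Agent.CycB.StalkExact K321.TFDeg K321.ContrStalk
open K958.GpBase

variable {X : Scheme.{u}}

theorem twistMap_tmul (I : X.IdealSheafData) (E : X.Modules) (U : X.Opens) (t : Γ(E, U))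
    (m : Γ(ClSub.idealMod I, U)) :
    (ParSh.twistMap I E).app U (SecTwist.tmul E (ClSub.idealMod I) U t m) =
      CurvesC.TwoSecOf968.cval (ClSub.idealModι I) m • t := by
  change ((KoszTw.tensorMap (𝟙 E) (ClSub.idealModι I) ≫ (SecTwist.unitorR E).hom).app U) _ = _
  rw [Scheme.Modules.Hom.comp_app]
  refine (congrArg ((SecTwist.unitorR E).hom.app U)
    (KoszTw.tensorMap_tmul (𝟙 E) (ClSub.idealModι I) U t m)).trans ?_
  exact SecTwist.unitorR_tmul E U t _

theorem twistMap_stalk (I : X.IdealSheafData) (E : X.Modules) (x : X) (g : E.presheaf.stalk x)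
    (f : (ClSub.idealMod I).presheaf.stalk x) :
    stalkLin (ParSh.twistMap I E) x ((stalkTensor E (ClSub.idealMod I) x).symm (g ⊗ₜ f)) =
      cst (ClSub.idealModι I) x f • g := by
  obtain ⟨U, hU, g, rfl⟩ := E.presheaf.exists_germ_eq g
  obtain ⟨V, hV, f, rfl⟩ := (ClSub.idealMod I).presheaf.exists_germ_eq f
  have hW : x ∈ U ⊓ V := ⟨hU, hV⟩
  rw [← Fdesc.QCohStalk.germ_map E (inf_le_left : U ⊓ V ≤ U) x hW,
    ← Fdesc.QCohStalk.germ_map (ClSub.idealMod I) (inf_le_right : U ⊓ V ≤ V) x hW, cst_germ]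
  refine (congrArg (stalkLin (ParSh.twistMap I E) x)
    (FormalB.BC.tensorStalkIso_inv_germ E (ClSub.idealMod I) x (U ⊓ V) hW _ _)).trans ?_
  refine (stalkLin_germ _ x hW _).trans ?_
  rw [← Fdesc.QCohStalk.germ_smul']
  exact congrArg _ (twistMap_tmul I E (U ⊓ V) _ _)

/-- Elements of the stalk of `E` which die in `E ⊗ O_D` are in `m E` at the points of the reduced `D`. -/
theorem mem_of_toRD_eq_zero (I : X.IdealSheafData) (hred : IsReduced I.subscheme)
    (hc : ∀ x ∈ Set.range I.subschemeι, IsClosed ({x} : Set X)) {x : X} (hx : x ∈ Set.range I.subschemeι)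
    (E : X.Modules) (t : E.presheaf.stalk x) (ht : stalkLin (toRD' I E) x t = 0) :
    t ∈ IsLocalRing.maximalIdeal (X.presheaf.stalk x) • (⊤ : Submodule (X.presheaf.stalk x) (E.presheaf.stalk x)) := by
  obtain ⟨w, hex⟩ := K958.CurvA.exact_twistMap I E
  have h1 := stalkLin_exact _ hex x
  have h2 : stalkLin (toRD I E) x t = 0 := by
    unfold toRD
    rw [stalkLin_comp, LinearMap.comp_apply, ht, map_zero]
  obtain ⟨z, hz⟩ := (h1 t).1 h2
  obtain ⟨y, rfl⟩ := (stalkTensor E (ClSub.idealMod I) x).symm.surjective z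
  rw [← hz]
  clear hz h2 ht
  induction y with
  | zero => rw [map_zero, map_zero]; exact Submodule.zero_mem _
  | tmul g f =>
    change stalkLin (ParSh.twistMap I E) x _ ∈ _
    rw [twistMap_stalk]
    refine Submodule.smul_mem_smul ?_ trivial
    rw [← K321.IdealPts.range_cst I hred hc hx]
    exact ⟨f, rfl⟩
  | add a b ha hb => rw [map_add, map_add]; exact Submodule.add_mem _ ha hb

end K774.Twist
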