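import Groth.Agent.TFNodal.K774.VanG
import Groth.Agent.TFNodal.K774.Twist
import Groth.Agent.TFNodal.K774.Assem
import Groth.Agent.TFNodal.K977.Beta
import Groth.Agent.Models.H74.CohLin
import Groth.Agent.S0420

/-!
# Torsion free sheaves on a nodal curve as kernels on the normalization: the kernel presentation
-/

set_option autoImplicit false
set_option linter.style.haveILetI false
universe u
open CategoryTheory CategoryTheory.Limits AlgebraicGeometry TopologicalSpace

namespace K774.Main

open Groth.Agent Groth.Agent.CycB.StalkExact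
open Groth.Agent.Sga67.Sec Groth.Agent.Sga67.LocBasis Groth.Agent.Sga67.LocBasisStalk
open Groth.Agent.Krr.H487.LocBasisPull K958.GpBase
open Groth.Agent.Sga7.H598.SNDef

theorem map_mem {X : Scheme.{u}} {M N : X.Modules} (f : M ⟶ N) (x : X) {t : M.presheaf.stalk x}
    (ht : t ∈ IsLocalRing.maximalIdeal (X.presheaf.stalk x) • (⊤ : Submodule (X.presheaf.stalk x) (M.presheaf.stalk x))) :
    stalkLin f x t ∈ IsLocalRing.maximalIdeal (X.presheaf.stalk x) •
      (⊤ : Submodule (X.presheaf.stalk x) (N.presheaf.stalk x)) := by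
  refine Submodule.smul_induction_on ht ?_ ?_
  · intro a ha n _
    rw [map_smul]
    exact Submodule.smul_mem_smul ha trivial
  · intro a b ha hb
    rw [map_add]
    exact Submodule.add_mem _ ha hb

section Local

variable {X Y : Scheme.{u}} (π : Y ⟶ X)

/-- Sections of `E ⊆ π^* G` vanishing on the reduced preimage of the node come from `m_x G`. -/
theorem mem_range [IsLocallyNoetherian X] [AlgebraicGeometry.IsReduced X]
    [AlgebraicGeometry.IsFinite π]
    (U : X.Opens) (hUiso : IsIso (π ∣_ U)) (hU : ∀ ξ : X, IsField (X.presheaf.stalk ξ) → ξ ∈ U)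
    (x : X) (hsp : ∀ ξ : X, ξ ⤳ x → ξ ≠ x → ξ ∈ U)
    (hdvr : ∀ y : Y, π y = x → ∃ _ : IsDomain (Y.presheaf.stalk y),
      IsDiscreteValuationRing (Y.presheaf.stalk y))
    (hsn : SN (X.presheaf.stalk x)) (hex : ∃ y : Y, π y = x)
    {G F : X.Modules} {r : ℕ} (hG : FlatMod.IsFinLocFreeOfRank r G) (j : F ⟶ G)
    (hj : ∀ g : G.presheaf.stalk x, g ∈ IsLocalRing.maximalIdeal (X.presheaf.stalk x) •
      (⊤ : Submodule (X.presheaf.stalk x) (G.presheaf.stalk x)) → g ∈ LinearMap.range (stalkLin j x))
    (J : Y.IdealSheafData) (hred : IsReduced J.subscheme)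
    (hc : ∀ y ∈ Set.range J.subschemeι, IsClosed ({y} : Set Y))
    (hxJ : ∀ y : Y, π y = x → y ∈ Set.range J.subschemeι)
    {E : Y.Modules} (ι : E ⟶ (Scheme.Modules.pullback π).obj G) [Mono ι]
    (η : F ⟶ (Scheme.Modules.pushforward π).obj E)
    (hcomm : η ≫ (Scheme.Modules.pushforward π).map ι =
      j ≫ (Scheme.Modules.pullbackPushforwardAdjunction π).unit.app G)
    (z : ((Scheme.Modules.pushforward π).obj E).presheaf.stalk x)
    (hz : stalkLin ((Scheme.Modules.pushforward π).map (toRD' J E)) x z = 0) :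
    z ∈ LinearMap.range (stalkLin η x) := by
  have hmono : Mono ((Scheme.Modules.pushforward π).map ι) := by
    haveI := (Scheme.Modules.pullbackPushforwardAdjunction π).rightAdjoint_preservesLimits
    infer_instance
  obtain ⟨V, hxV, s, rfl⟩ := exists_ger _ x z
  rw [stalkLin_ger] at hz
  obtain ⟨V', hV', hxV', e⟩ := exists_res_eq _ x hxV _ 0 (hz.trans (ger_zero _ x hxV).symm)
  let s' : Sec E (π ⁻¹ᵁ V') := res E (π.preimage_mono hV') (show Sec E (π ⁻¹ᵁ V) from s)
  have e' : appS (toRD' J E) (π ⁻¹ᵁ V') s' = 0 := by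
    have h1 : appS (toRD' J E) (π ⁻¹ᵁ V') s' =
        res _ (π.preimage_mono hV') (appS (toRD' J E) (π ⁻¹ᵁ V) (show Sec E (π ⁻¹ᵁ V) from s)) :=
      appS_res _ _ _
    rw [h1]
    refine Eq.trans e ?_
    exact map_zero _
  have hs' : ∀ (y : Y) (hy : π y = x),
      ger ((Scheme.Modules.pullback π).obj G) (U := π ⁻¹ᵁ V') y (show π y ∈ V' by rw [hy]; exact hxV')
        (appS ι (π ⁻¹ᵁ V') s') ∈ IsLocalRing.maximalIdeal (Y.presheaf.stalk y) •
          (⊤ : Submodule (Y.presheaf.stalk y) (((Scheme.Modules.pullback π).obj G).presheaf.stalk y)) := by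
    intro y hy
    have hyV : y ∈ π ⁻¹ᵁ V' := show π y ∈ V' by rw [hy]; exact hxV'
    have h1 : stalkLin (toRD' J E) y (ger E y hyV s') = 0 := by
      rw [stalkLin_ger, e', ger_zero]
    have h2 := Twist.mem_of_toRD_eq_zero J hred hc (hxJ y hy) E _ h1
    have h3 := map_mem ι y h2
    rw [stalkLin_ger] at h3
    exact h3
  obtain ⟨V'', hV'', hxV'', g, hg, hgs⟩ := VanG.exists_section π U hUiso hU x hsp hdvr hsn hex hG hxV'
    (appS ι (π ⁻¹ᵁ V') s') hs'
  obtain ⟨n, hn⟩ := hj _ hg
  refine ⟨n, ?_⟩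
  apply stalkLin_injective ((Scheme.Modules.pushforward π).map ι) x
  have h1 : stalkLin ((Scheme.Modules.pushforward π).map ι) x (stalkLin η x n) =
      stalkLin ((Scheme.Modules.pullbackPushforwardAdjunction π).unit.app G) x (stalkLin j x n) := by
    rw [← LinearMap.comp_apply, ← stalkLin_comp, hcomm, stalkLin_comp]
    rfl
  have h4 : stalkLin ((Scheme.Modules.pullbackPushforwardAdjunction π).unit.app G) x (ger G x hxV'' g) =
      ger ((Scheme.Modules.pushforward π).obj ((Scheme.Modules.pullback π).obj G)) x hxV'' (pbS π G g) :=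
    stalkLin_ger _ _ _ _
  have h5 : stalkLin ((Scheme.Modules.pushforward π).map ι) x (ger ((Scheme.Modules.pushforward π).obj E) x hxV s) =
      ger ((Scheme.Modules.pushforward π).obj ((Scheme.Modules.pullback π).obj G)) x hxV
        (appS ((Scheme.Modules.pushforward π).map ι) V s) := stalkLin_ger _ _ _ _
  have h2 := ger_res ((Scheme.Modules.pushforward π).obj ((Scheme.Modules.pullback π).obj G)) (hV''.trans hV')
    x hxV'' (appS ((Scheme.Modules.pushforward π).map ι) V s)
  have h3 : appS ι (π ⁻¹ᵁ V') s' =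
        res _ (π.preimage_mono hV') (appS ι (π ⁻¹ᵁ V) (show Sec E (π ⁻¹ᵁ V) from s)) := appS_res _ _ _
  have h6 : pbS π G g = res ((Scheme.Modules.pushforward π).obj ((Scheme.Modules.pullback π).obj G)) (hV''.trans hV')
      (appS ((Scheme.Modules.pushforward π).map ι) V s) := by
    rw [hgs, h3, res_res]
    rfl
  rw [h1, hn, h4, h5, h6, h2]

end Local

section Norm

variable (k : Type u) [Field k] [IsAlgClosed k]
    (X : Scheme.{u}) [X.Over (Spec (CommRingCat.of k))]
    [LocallyOfFiniteType (X ↘ Spec (CommRingCat.of k))]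
    [QuasiCompact (X ↘ Spec (CommRingCat.of k))]
    (hdim : topologicalKrullDim X ≤ 1) (hnod : Curv2.AtWorstNodal k X)
    (Y : Scheme.{u}) (π : Y ⟶ X) [AlgebraicGeometry.IsFinite π]
    [Smooth (π ≫ (X ↘ Spec (CommRingCat.of k)))]
    (U : X.Opens) (hU : ∀ x : X, x ∈ U ↔ ¬ Curv2.IsNode k X x) (hUiso : IsIso (π ∣_ U))
    (hUd : Dense ((π ⁻¹ᵁ U : Y.Opens) : Set Y))

theorem surjective_of_dense {X Y : Scheme.{u}} (π : Y ⟶ X) [AlgebraicGeometry.IsFinite π] (U : X.Opens)
    (hUiso : IsIso (π ∣_ U)) (hU : Dense (U : Set X)) (x : X) : ∃ y : Y, π y = x := by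
  have h1 : (U : Set X) ⊆ Set.range π := by
    intro z hz
    obtain ⟨w, hw⟩ := (π ∣_ U).surjective ⟨z, hz⟩
    refine ⟨(π ⁻¹ᵁ U).ι w, ?_⟩
    rw [← Scheme.Hom.comp_apply, ← morphismRestrict_ι, Scheme.Hom.comp_apply, hw]
    rfl
  have h2 : IsClosed (Set.range π) := π.isClosedMap.isClosed_range
  have h3 := h2.closure_subset_iff.2 h1
  rw [hU.closure_eq] at h3
  exact h3 trivial

theorem finsum_eq {S : Set X} (hS : S.Finite) (r : ℕ) (f : X → ℕ) (hf : ∀ x ∈ S, f x = r) :
    (∑ᶠ x ∈ S, f x) = r * Nat.card {x : X // x ∈ S} := by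
  rw [finsum_mem_congr rfl hf, finsum_mem_eq_finite_toFinset_sum _ hS, Finset.sum_const, smul_eq_mul, mul_comm]
  congr 1
  rw [Nat.card_coe_set_eq, ← Set.ncard_eq_toFinset_card S hS]

include hdim hnod hU hUiso hUd in
/-- The kernel presentation, from a locally free `E` between `F` and `π^* G`. -/
theorem presentation (r : ℕ) (F G : X.Modules) (hG : FlatMod.IsFinLocFreeOfRank r G) (j : F ⟶ G) [Mono j]
    (hj : ∀ x, Curv2.IsNode k X x → ∀ g : G.presheaf.stalk x, g ∈ IsLocalRing.maximalIdeal (X.presheaf.stalk x) •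
      (⊤ : Submodule (X.presheaf.stalk x) (G.presheaf.stalk x)) → g ∈ LinearMap.range (stalkLin j x))
    (E : Y.Modules) (ι : E ⟶ (Scheme.Modules.pullback π).obj G) (η : F ⟶ (Scheme.Modules.pushforward π).obj E)
    (hE : FlatMod.IsFinLocFreeOfRank r E) (hι : Mono ι)
    (hcomm : η ≫ (Scheme.Modules.pushforward π).map ι =
      j ≫ (Scheme.Modules.pullbackPushforwardAdjunction π).unit.app G)
    (hunit : ∀ x, Function.Injective
      (stalkLin ((Scheme.Modules.pullbackPushforwardAdjunction π).unit.app G) x))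
    (hbij : ∀ x, ¬ Curv2.IsNode k X x → Function.Bijective (stalkLin η x))
    (hlen : ∀ x, Curv2.IsNode k X x →
      Module.length (X.presheaf.stalk x) ((cokernel η).presheaf.stalk x) = r) :
    ∃ (Q : X.Modules) (q : (Scheme.Modules.pushforward π).obj
          (ParSh.resD (Scheme.IdealSheafData.vanishingIdeal
            ⟨closure (π.base ⁻¹' {x : X | Curv2.IsNode k X x}), isClosed_closure⟩) E) ⟶ Q),
        Epi q ∧
        (∀ x : X, ¬ Curv2.IsNode k X x → Subsingleton (Q.presheaf.stalk x)) ∧
        (∑ᶠ x ∈ {x : X | Curv2.IsNode k X x},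
            (Module.length (X.presheaf.stalk x) (Q.presheaf.stalk x)).toNat) = r * Nat.card {x : X // Curv2.IsNode k X x} ∧
        Nonempty (F ≅ kernel ((Scheme.Modules.pushforward π).map
            ((SecTwist.unitorR E).inv ≫ KoszTw.tensorMap (𝟙 E) (ClSub.toSubscheme
              (Scheme.IdealSheafData.vanishingIdeal
                ⟨closure (π.base ⁻¹' {x : X | Curv2.IsNode k X x}), isClosed_closure⟩))) ≫ q)) := by
  have hNX : IsLocallyNoetherian X :=
    LocallyOfFiniteType.isLocallyNoetherian (X ↘ Spec (CommRingCat.of k))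
  have hN : IsNoetherian X :=
    Groth.Agent.Models.H58.NodalGlueGeo.isNoetherian (X ↘ Spec (CommRingCat.of k))
  have hNY : IsLocallyNoetherian Y := LocallyOfFiniteType.isLocallyNoetherian π
  have hR := K977.NodeNorm.isReduced k X hnod
  let S : Set X := {x | Curv2.IsNode k X x}
  have hScl : IsClosed S := by
    have : S = (U : Set X)ᶜ := by
      ext x
      exact ⟨fun h h' => (hU x).1 h' h, fun h => not_not.1 fun h' => h ((hU x).2 h')⟩
    rw [this]
    exact U.2.isClosed_compl
  have hSf : S.Finite := Groth.Agent.Models.H58.NodalGlueGeo.finite_of_isClosed_singleton hScl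
    fun x hx => hx.1
  have hU' : ∀ ξ : X, IsField (X.presheaf.stalk ξ) → ξ ∈ U := fun ξ hξ => by
    rw [hU]
    exact fun h => K977.NodeNorm.not_isField k X h hξ
  have hUd' := K977.NodeBlock.dense_of_generic U hU'
  let W : Set Y := closure (π.base ⁻¹' {x : X | Curv2.IsNode k X x})
  let J : Y.IdealSheafData := Scheme.IdealSheafData.vanishingIdeal ⟨W, isClosed_closure⟩
  have hW : W = π.base ⁻¹' {x : X | Curv2.IsNode k X x} :=
    (hScl.preimage π.continuous).closure_eq
  have hrange : Set.range J.subschemeι = W := S0420.range_subschemeι W isClosed_closure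
  have hred : IsReduced J.subscheme := Ega1.ReducedSub.isReduced_subscheme_vanishingIdeal _
  have hc : ∀ y ∈ Set.range J.subschemeι, IsClosed ({y} : Set Y) := by
    intro y hy
    rw [hrange, hW] at hy
    have hy' : Curv2.IsNode k X (π y) := hy
    exact Models.H74.CohLin.isClosed_singleton_of_finite π y hy'.1
  have hη : ∀ x, Function.Injective (stalkLin η x) := by
    intro x
    have h1 : Function.Injective (stalkLin (η ≫ (Scheme.Modules.pushforward π).map ι) x) := by
      rw [hcomm, stalkLin_comp]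
      exact (hunit x).comp (stalkLin_injective j x)
    rw [stalkLin_comp] at h1
    intro a b hab
    exact h1 (congrArg (stalkLin ((Scheme.Modules.pushforward π).map ι) x) hab)
  have hK : ∀ (x : X) (z : ((Scheme.Modules.pushforward π).obj E).presheaf.stalk x),
      stalkLin ((Scheme.Modules.pushforward π).map (toRD' J E)) x z = 0 → z ∈ LinearMap.range (stalkLin η x) := by
    intro x z hz
    by_cases hx : Curv2.IsNode k X x
    · have hsp : ∀ ξ : X, ξ ⤳ x → ξ ≠ x → ξ ∈ U := fun ξ hξ hne => by
        rw [hU]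
        intro h
        apply hne
        exact (h.1.closure_eq ▸ hξ.mem_closure : x ∈ ({ξ} : Set X)).symm
      have hdvr : ∀ y : Y, π y = x → ∃ _ : IsDomain (Y.presheaf.stalk y),
          IsDiscreteValuationRing (Y.presheaf.stalk y) := by
        intro y hy
        refine Models.H58.NodalGlueGeo.dvr_stalk (X ↘ Spec (CommRingCat.of k)) π hdim U hUd y ?_
        intro hyU
        have : π y ∈ U := hyU
        rw [hy, hU] at this
        exact this hx
      refine mem_range π U hUiso hU' x hsp hdvr (Sga7.H598.SNNode.sn_of_isNode k X x hx)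
        (surjective_of_dense π U hUiso hUd' x) hG j (hj x hx) J hred hc ?_ ι η hcomm z hz
      intro y hy
      rw [hrange, hW]
      change Curv2.IsNode k X (π y)
      rw [hy]
      exact hx
    · obtain ⟨n, rfl⟩ := (hbij x hx).2 z
      exact ⟨n, rfl⟩
  have hEq : Coh.IsQCoh E := K977.Beta.isQCoh_of_rank Y r E hE
  have hDq : Coh.IsQCoh (ParSh.resD J E) := (coh_rD J hE).1
  have hepi : Epi (toRD' J E) := by
    have := epi_toRD J E
    unfold toRD at this
    exact (epi_comp_iff_of_isIso (toRD' J E) (rDIso J E).inv).1 this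
  have hsurj : ∀ x, Function.Surjective (stalkLin ((Scheme.Modules.pushforward π).map (toRD' J E)) x) := by
    intro x
    haveI := K38.DirImg.epi_pushforward π hEq hDq (toRD' J E)
    exact stalkLin_surjective _ x
  refine ⟨cokernel (η ≫ (Scheme.Modules.pushforward π).map (toRD' J E)), cokernel.π _, inferInstance, ?_, ?_,
    Assem.nonempty_iso η ((Scheme.Modules.pushforward π).map (toRD' J E)) hη hK⟩
  · intro x hx
    apply K977.UnitOn.subsingleton_coker
    rw [stalkLin_comp]
    exact (hsurj x).comp (hbij x hx).2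
  · refine finsum_eq X hSf r _ fun x hx => ?_
    obtain ⟨e⟩ := Assem.nonempty_equiv η ((Scheme.Modules.pushforward π).map (toRD' J E)) x (hsurj x) (hK x)
    rw [← e.length_eq, hlen x hx]
    rfl

end Norm

end K774.Main
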