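import Groth.Agent.TFNodal.K774.Vanish
import Groth.Agent.Krr.H487.LocBasisPull

/-!
# Sections of `π^* G` vanishing at the points over a node
-/

set_option autoImplicit false
set_option linter.style.haveILetI false
universe u
open CategoryTheory CategoryTheory.Limits AlgebraicGeometry TopologicalSpace

namespace K774.VanG

open Groth.Agent Groth.Agent.CycB.StalkExact
open Groth.Agent.Sga67.Sec Groth.Agent.Sga67.LocBasis Groth.Agent.Sga67.LocBasisStalk
open Groth.Agent.Krr.H487.LocBasisPull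
open Groth.Agent.Sga7.H598.SNDef

theorem repr_mem {R : Type u} [CommRing R] {M : Type u} [AddCommGroup M] [Module R M] {κ : Type*}
    (β : Module.Basis κ R M) (I : Ideal R) {t : M} (ht : t ∈ I • (⊤ : Submodule R M)) (i : κ) :
    β.repr t i ∈ I := by
  refine Submodule.smul_induction_on ht ?_ ?_
  · intro a ha n _
    rw [map_smul, Finsupp.smul_apply, smul_eq_mul]
    exact Ideal.mul_mem_right _ _ ha
  · intro a b ha hb
    rw [map_add, Finsupp.add_apply]
    exact Ideal.add_mem _ ha hb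

variable {X Y : Scheme.{u}} (π : Y ⟶ X)

/-- A section of `π^* G` over `π ⁻¹ V` vanishing at all points over the node `x` comes near `x` from a
section of `G` vanishing at `x`. -/
theorem exists_section [IsLocallyNoetherian X] [AlgebraicGeometry.IsReduced X]
    [AlgebraicGeometry.IsFinite π]
    (U : X.Opens) (hUiso : IsIso (π ∣_ U)) (hU : ∀ ξ : X, IsField (X.presheaf.stalk ξ) → ξ ∈ U)
    (x : X) (hsp : ∀ ξ : X, ξ ⤳ x → ξ ≠ x → ξ ∈ U)
    (hdvr : ∀ y : Y, π y = x → ∃ _ : IsDomain (Y.presheaf.stalk y),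
      IsDiscreteValuationRing (Y.presheaf.stalk y))
    (hsn : SN (X.presheaf.stalk x)) (hex : ∃ y : Y, π y = x)
    {G : X.Modules} {r : ℕ} (hG : FlatMod.IsFinLocFreeOfRank r G)
    {V : X.Opens} (hx : x ∈ V) (s : Sec ((Scheme.Modules.pullback π).obj G) (π ⁻¹ᵁ V))
    (hs : ∀ (y : Y) (hy : π y = x),
      ger ((Scheme.Modules.pullback π).obj G) (U := π ⁻¹ᵁ V) y (show π y ∈ V by rw [hy]; exact hx) s ∈
        IsLocalRing.maximalIdeal (Y.presheaf.stalk y) •
          (⊤ : Submodule (Y.presheaf.stalk y) (((Scheme.Modules.pullback π).obj G).presheaf.stalk y))) :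
    ∃ (V' : X.Opens) (hVV' : V' ≤ V) (hxV' : x ∈ V') (g : Sec G V'),
      ger G x hxV' g ∈ IsLocalRing.maximalIdeal (X.presheaf.stalk x) •
        (⊤ : Submodule (X.presheaf.stalk x) (G.presheaf.stalk x)) ∧
      pbS π G g = res ((Scheme.Modules.pullback π).obj G) (π.preimage_mono hVV') s := by
  obtain ⟨V0, hx0, hn⟩ := hG x
  obtain ⟨b0, hb0⟩ := nonempty_restrict_iso_iff.mp hn
  obtain ⟨V1, hV1, hx1, hV1le⟩ := exists_isAffineOpen_mem_and_subset (X := X) (x := x) (U := V0 ⊓ V)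
    ⟨hx0, hx⟩
  have h10 : V1 ≤ V0 := fun z hz => (hV1le hz).1
  have h1V : V1 ≤ V := fun z hz => (hV1le hz).2
  let b : Fin r → Sec G V1 := fun i => res G h10 (b0 i)
  have hb : IsLocBasis b := hb0.restrict h10
  have hpb := isLocBasis_pbS π hb
  obtain ⟨a, ha⟩ := (hpb (π ⁻¹ᵁ V1) le_rfl).2 (res _ (π.preimage_mono h1V) s)
  have hax : ∀ (i : Fin r) (y : Y) (hy : π y = x),
      Y.presheaf.germ (π ⁻¹ᵁ V1) y (show π y ∈ V1 by rw [hy]; exact hx1) (a i) ∈
        IsLocalRing.maximalIdeal (Y.presheaf.stalk y) := by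
    intro i y hy
    have hyV : y ∈ π ⁻¹ᵁ V1 := show π y ∈ V1 by rw [hy]; exact hx1
    obtain ⟨β, hβ⟩ := exists_stalkBasis hpb y hyV
    have h1 : ger _ y hyV (res _ (π.preimage_mono h1V) s) =
        ∑ k, gerO y hyV (a k) • β k := by
      rw [← ha, ger_comb]
      simp only [hβ]
    rw [ger_res] at h1
    have h2 := repr_mem β _ (h1 ▸ hs y hy) i
    have h3 : β.repr (∑ k, gerO y hyV (a k) • β k) i = gerO y hyV (a i) := by
      rw [map_sum, Finsupp.finsetSum_apply]
      simp only [map_smul, Finsupp.smul_apply, Module.Basis.repr_self, smul_eq_mul]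
      rw [Finset.sum_eq_single i]
      · rw [Finsupp.single_eq_same, mul_one]
      · intro k _ hk
        rw [Finsupp.single_eq_of_ne hk.symm, mul_zero]
      · intro h; exact absurd (Finset.mem_univ i) h
    rw [h3] at h2
    exact h2
  choose V' hVV' hxV' a' ha'm ha' using fun i => Vanish.exists_of_vanish_affine π U hUiso hU x hsp hdvr
    hsn hex hV1 hx1 (a i) (hax i)
  let V2 : X.Opens := V1 ⊓ ⨅ i, V' i
  have hV2fin : ∀ z, (z ∈ V2 ↔ z ∈ V1 ∧ ∀ i, z ∈ V' i) := by
    intro z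
    change z ∈ V1 ∧ z ∈ (⨅ i, V' i : X.Opens) ↔ _
    have h1 : z ∈ (⨅ i, V' i : X.Opens) ↔ ∀ i, z ∈ V' i := by
      have h2 : (((⨅ i, V' i : X.Opens) : Set X)) = ⋂ i, (V' i : Set X) := Opens.coe_iInf V'
      rw [← SetLike.mem_coe, h2]
      simp
    rw [h1]
  have hx2 : x ∈ V2 := (hV2fin x).2 ⟨hx1, hxV'⟩
  have h21 : V2 ≤ V1 := fun z hz => ((hV2fin z).1 hz).1
  have h2' : ∀ i, V2 ≤ V' i := fun i z hz => ((hV2fin z).1 hz).2 i
  let a2 : Fin r → Γ(X, V2) := fun i => resO X (h2' i) (a' i)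
  refine ⟨V2, h21.trans h1V, hx2, comb b h21 a2, ?_, ?_⟩
  · rw [ger_comb]
    refine Submodule.sum_mem _ fun i _ => Submodule.smul_mem_smul ?_ trivial
    have h3 : gerO x hx2 (a2 i) = X.presheaf.germ (V' i) x (hxV' i) (a' i) := gerO_res (h2' i) x hx2 (a' i)
    rw [h3]
    exact ha'm i
  · have h3 : pbS π G (comb b h21 a2) = comb (fun k => pbS π G (b k)) (π.preimage_mono h21)
        (fun k => (π.app V2 (a2 k) : Γ(Y, π ⁻¹ᵁ V2))) := by
      rw [comb_apply, comb_apply, map_sum]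
      refine Finset.sum_congr rfl fun k _ => ?_
      rw [pbS_smul, res_pbS π G h21]
    rw [h3, ← res_res _ (π.preimage_mono h1V) (π.preimage_mono h21), ← ha, res_comb]
    congr 1
    funext k
    have h4 := ha' k
    have hnat : π.app V2 (resO X (h2' k) (a' k)) =
        resO Y (π.preimage_mono (h2' k)) (π.app (V' k) (a' k)) :=
      congr($(π.naturality (homOfLE (h2' k)).op) (a' k))
    change π.app V2 (resO X (h2' k) (a' k)) = _
    rw [hnat, h4]
    exact resO_resO (π.preimage_mono (hVV' k)) (π.preimage_mono (h2' k)) (a k)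

end K774.VanG
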