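import Groth.Agent.TFNodal.K977.NodeNorm

/-!
# Functions on the normalization vanishing at the points over a node

A function on `π ⁻¹ V` which vanishes at all points over the node `x` comes, near `x`, from a function on `X`
vanishing at `x`.
-/

set_option autoImplicit false
set_option linter.style.haveILetI false
universe u
open CategoryTheory CategoryTheory.Limits AlgebraicGeometry TopologicalSpace

namespace K774.Vanish

open Groth.Agent Groth.Agent.CycB.StalkExact Groth.Agent.VarietyB.PullSec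
open Groth.Agent.Sga7.H598.SNDef K977.NodeAlg K977.NodeBlock K977

variable {X Y : Scheme.{u}} (π : Y ⟶ X)

theorem exists_of_vanish_affine [IsLocallyNoetherian X] [AlgebraicGeometry.IsReduced X]
    [AlgebraicGeometry.IsFinite π]
    (U : X.Opens) (hUiso : IsIso (π ∣_ U)) (hU : ∀ ξ : X, IsField (X.presheaf.stalk ξ) → ξ ∈ U)
    (x : X) (hsp : ∀ ξ : X, ξ ⤳ x → ξ ≠ x → ξ ∈ U)
    (hdvr : ∀ y : Y, π y = x → ∃ _ : IsDomain (Y.presheaf.stalk y),
      IsDiscreteValuationRing (Y.presheaf.stalk y))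
    (hsn : SN (X.presheaf.stalk x)) (hex : ∃ y : Y, π y = x)
    {V : X.Opens} (hV : IsAffineOpen V) (hx : x ∈ V) (b : Γ(Y, π ⁻¹ᵁ V))
    (hb : ∀ (y : Y) (hy : π y = x), Y.presheaf.germ (π ⁻¹ᵁ V) y (show π y ∈ V by rw [hy]; exact hx) b ∈
      IsLocalRing.maximalIdeal (Y.presheaf.stalk y)) :
    ∃ (V' : X.Opens) (hVV' : V' ≤ V) (hxV' : x ∈ V') (a : Γ(X, V')),
      X.presheaf.germ V' x hxV' a ∈ IsLocalRing.maximalIdeal (X.presheaf.stalk x) ∧
      π.app V' a = Y.presheaf.map (homOfLE (π.preimage_mono hVV')).op b := by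
  have hNX : IsNoetherianRing Γ(X, V) := IsLocallyNoetherian.component_noetherian ⟨V, hV⟩
  have hNO : IsNoetherianRing (X.presheaf.stalk x) := inferInstance
  let p : Ideal Γ(X, V) := (hV.primeIdealOf ⟨x, hx⟩).asIdeal
  haveI hp : p.IsPrime := (hV.primeIdealOf ⟨x, hx⟩).isPrime
  let W : Y.Opens := π ⁻¹ᵁ V
  letI a1 : Algebra Γ(X, V) Γ(Y, W) := (π.appLE V W le_rfl).hom.toAlgebra
  letI a2 : Algebra Γ(X, V) (X.presheaf.stalk x) := germAlg x hx
  haveI t3 : IsLocalization.AtPrime (X.presheaf.stalk x) p := hV.isLocalization_stalk ⟨x, hx⟩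
  haveI hfin0 : Module.Finite Γ(X, V) Γ(Y, W) := by
    have := IsFinite.finite_app π V hV
    rw [Scheme.Hom.app_eq_appLE] at this
    exact this
  let B := Localization (Algebra.algebraMapSubmonoid Γ(Y, W) p.primeCompl)
  letI a4 : Algebra (X.presheaf.stalk x) B := localizationAlgebra p.primeCompl Γ(Y, W)
  haveI t1 : IsScalarTower Γ(X, V) (X.presheaf.stalk x) B :=
    isScalarTower_localizationAlgebra p.primeCompl Γ(Y, W)
  haveI hfin : Module.Finite (X.presheaf.stalk x) B :=
    Module.Finite.of_isLocalization Γ(X, V) Γ(Y, W) p.primeCompl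
  have hUd := dense_of_generic U hU
  have happ : ∀ z : Γ(X, V), algebraMap Γ(X, V) Γ(Y, W) z = π.app V z := fun z => by
    rw [Scheme.Hom.app_eq_appLE]; rfl
  have hinj0 : Function.Injective (algebraMap Γ(X, V) Γ(Y, W)) := by
    have := injective_app π U hUiso hUd V
    intro a b hab
    apply this
    rwa [happ, happ] at hab
  have hinj : Function.Injective (algebraMap (X.presheaf.stalk x) B) :=
    NodeLoc.injective_of p hinj0
  have hloc : LocDVR B := NodeLoc.locDVR_of p (O := X.presheaf.stalk x)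
    (exists_dvr π hV x hx hdvr)
  have hcond : ∃ N : ℕ, ∀ a ∈ IsLocalRing.maximalIdeal (X.presheaf.stalk x) ^ N, ∀ b : B,
      algebraMap (X.presheaf.stalk x) B a * b ∈ (algebraMap (X.presheaf.stalk x) B).range := by
    refine NodeLoc.exists_pow_of p (B₀ := Γ(Y, W)) ?_
    intro P hP hPm
    obtain ⟨ξ, hξ, rfl⟩ := CycB.LocQuot.exists_eq_ker P
    have hξx : ξ ≠ x := by
      rintro rfl
      apply hPm
      apply IsLocalRing.eq_maximalIdeal
      rw [← CycB.LocQuot.primeOf_asIdeal, CycB.LocQuot.primeOf]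
      have : (X.presheaf.stalkSpecializes hξ) = 𝟙 _ := by
        simp
      rw [this]
      exact IsLocalRing.maximalIdeal.isMaximal _
    have hξV : ξ ∈ V := hξ.mem_open V.2 hx
    obtain ⟨f, hf, hξf⟩ := hV.exists_basicOpen_le (V := V ⊓ U) ⟨ξ, ⟨hξV, hsp ξ hξ hξx⟩⟩ hξV
    refine ⟨f, ?_, ?_⟩
    · rw [CycB.LocQuot.mem_ker_specMap_iff, not_not]
      have : (X.presheaf.stalkSpecializes hξ).hom (algebraMap Γ(X, V) (X.presheaf.stalk x) f) =
          X.presheaf.germ V ξ hξV f :=
        congr($(X.presheaf.germ_stalkSpecializes hx hξ) f)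
      rw [this]
      exact (X.mem_basicOpen f ξ hξV).1 hξf
    · intro b
      obtain ⟨n, a, ha⟩ := exists_pow_mul_eq π hV f
        (isIso_app_of_isIso_restrict π U hUiso _ (hf.trans inf_le_right)) b
      exact ⟨n, a, by rw [happ, happ]; exact ha⟩
  have hnt : Nontrivial B := hinj.nontrivial
  have hH : Hyp (X.presheaf.stalk x) B := ⟨hinj, hloc, hsn, hcond⟩
  -- the image of `b` in `B` lies in every maximal ideal
  have hmem : ∀ n : Ideal B, n.IsMaximal → algebraMap Γ(Y, W) B b ∈ n := by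
    intro n hn
    let q : Ideal Γ(Y, W) := n.comap (algebraMap Γ(Y, W) B)
    have hq : q.IsPrime := Ideal.comap_isPrime _ _
    have hqp : q.comap (π.appLE V (π ⁻¹ᵁ V) le_rfl).hom = (hV.primeIdealOf ⟨x, hx⟩).asIdeal := by
      have h1 : (algebraMap Γ(Y, W) B).comp (algebraMap Γ(X, V) Γ(Y, W)) =
          (algebraMap (X.presheaf.stalk x) B).comp (algebraMap Γ(X, V) (X.presheaf.stalk x)) := by
        rw [← IsScalarTower.algebraMap_eq, ← IsScalarTower.algebraMap_eq]
      change (n.comap (algebraMap Γ(Y, W) B)).comap (algebraMap Γ(X, V) Γ(Y, W)) = p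
      rw [Ideal.comap_comap, h1, ← Ideal.comap_comap, comap_eq (A := X.presheaf.stalk x) n]
      exact IsLocalization.AtPrime.under_maximalIdeal (X.presheaf.stalk x) p
    obtain ⟨y, hy, hyx, hyq⟩ := exists_point π hV x hx q hq hqp
    have h2 := hb y hyx
    have h3 : b ∈ ((hV.preimage π).primeIdealOf ⟨y, hy⟩).asIdeal := by
      rw [IsLocalRing.mem_maximalIdeal, mem_nonunits_iff] at h2
      have h4 : y ∉ Y.basicOpen b := fun h5 => h2 ((Y.mem_basicOpen b y hy).1 h5)
      by_contra h6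
      apply h4
      letI a5 := TopCat.Presheaf.algebra_section_stalk Y.presheaf ⟨y, hy⟩
      have hlocy := (hV.preimage π).isLocalization_stalk ⟨y, hy⟩
      have h7 : IsUnit (algebraMap Γ(Y, π ⁻¹ᵁ V) (Y.presheaf.stalk y) b) :=
        IsLocalization.map_units (M := ((hV.preimage π).primeIdealOf ⟨y, hy⟩).asIdeal.primeCompl)
          (Y.presheaf.stalk y) ⟨b, h6⟩
      exact (Y.mem_basicOpen b y hy).2 h7
    rw [hyq] at h3
    exact h3
  obtain ⟨a0, ha0, hab⟩ := hH.exists_of_mem _ hmem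
  -- write `a0` as a fraction
  obtain ⟨⟨a1, s1⟩, hs1⟩ := IsLocalization.surj p.primeCompl a0
  have h1 : algebraMap Γ(Y, W) B (algebraMap Γ(X, V) Γ(Y, W) s1.1 * b - algebraMap Γ(X, V) Γ(Y, W) a1) = 0 := by
    have h2 := congrArg (algebraMap (X.presheaf.stalk x) B) hs1
    rw [map_mul, hab, ← IsScalarTower.algebraMap_apply, ← IsScalarTower.algebraMap_apply] at h2
    rw [map_sub, map_mul, ← IsScalarTower.algebraMap_apply, ← IsScalarTower.algebraMap_apply, ← h2, mul_comm,
      sub_self]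
  obtain ⟨⟨s2', s2, hs2, rfl⟩, h2⟩ := (IsLocalization.map_eq_zero_iff
    (Algebra.algebraMapSubmonoid Γ(Y, W) p.primeCompl) B _).1 h1
  have h3 : π.app V s2 * (π.app V s1.1 * b - π.app V a1) = 0 := by
    have := h2
    simp only [happ] at this
    exact this
  let f : Γ(X, V) := s2 * s1.1
  have hf : f ∈ p.primeCompl := p.primeCompl.mul_mem hs2 s1.2
  have hxf : x ∈ X.basicOpen f := by
    rw [X.mem_basicOpen f x hx]
    exact IsLocalization.map_units (M := p.primeCompl) (X.presheaf.stalk x) ⟨f, hf⟩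
  have hVf : X.basicOpen f ≤ V := X.basicOpen_le f
  have hu : IsUnit (X.presheaf.map (homOfLE hVf).op f) := RingedSpace.isUnit_res_basicOpen _ f
  have hu' : IsUnit (X.presheaf.map (homOfLE hVf).op s2 * X.presheaf.map (homOfLE hVf).op s1.1) := by
    rw [← map_mul]; exact hu
  have hu2 : IsUnit (X.presheaf.map (homOfLE hVf).op s2) := isUnit_of_mul_isUnit_left hu'
  have hu1 : IsUnit (X.presheaf.map (homOfLE hVf).op s1.1) := isUnit_of_mul_isUnit_right hu'
  have hnat : ∀ z : Γ(X, V), π.app (X.basicOpen f) (X.presheaf.map (homOfLE hVf).op z)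
      = Y.presheaf.map (homOfLE (π.preimage_mono hVf)).op (π.app V z) := fun z =>
    congr($(π.naturality (homOfLE hVf).op) z)
  obtain ⟨v, hv⟩ := hu1.exists_right_inv
  have h4 : π.app (X.basicOpen f) (X.presheaf.map (homOfLE hVf).op s1.1) *
      Y.presheaf.map (homOfLE (π.preimage_mono hVf)).op b =
      π.app (X.basicOpen f) (X.presheaf.map (homOfLE hVf).op a1) := by
    have h5 := congrArg (Y.presheaf.map (homOfLE (π.preimage_mono hVf)).op) h3
    rw [map_mul, map_sub, map_mul, map_zero, ← hnat, ← hnat, ← hnat] at h5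
    have h6 := (hu2.map (π.app (X.basicOpen f)).hom).mul_right_eq_zero.1 h5
    exact sub_eq_zero.1 h6
  have h5 : π.app (X.basicOpen f) (v * X.presheaf.map (homOfLE hVf).op a1) =
      Y.presheaf.map (homOfLE (π.preimage_mono hVf)).op b := by
    rw [map_mul, ← h4, ← mul_assoc, ← map_mul, mul_comm v, hv, map_one, one_mul]
  refine ⟨X.basicOpen f, hVf, hxf, v * X.presheaf.map (homOfLE hVf).op a1, ?_, h5⟩
  obtain ⟨y, hy⟩ := hex
  have h6 := hb y hy
  rw [IsLocalRing.mem_maximalIdeal, mem_nonunits_iff] at h6 ⊢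
  intro h7
  apply h6
  have hxf' : π y ∈ X.basicOpen f := by rw [hy]; exact hxf
  have h8 : π y ∈ X.basicOpen (v * X.presheaf.map (homOfLE hVf).op a1) := by
    rw [hy]
    exact (X.mem_basicOpen _ x hxf).2 h7
  have h9 : y ∈ Y.basicOpen (π.app (X.basicOpen f) (v * X.presheaf.map (homOfLE hVf).op a1)) := by
    rw [← Scheme.preimage_basicOpen]
    exact h8
  rw [h5] at h9
  have h10 := (Y.mem_basicOpen _ y hxf').1 h9
  rw [← Y.presheaf.germ_res_apply (homOfLE (π.preimage_mono hVf)) y hxf' b]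
  exact h10

end K774.Vanish
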